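import Cfsg.Agent.H6.Th.H.Pres
import Cfsg.Agent.H6.Th.H.Chk0
import Cfsg.Agent.H6.Th.H.Chk1
import Cfsg.Agent.H6.Th.H.Chk2

set_option autoImplicit false
set_option maxRecDepth 100000
set_option Elab.async false

namespace Cfsg.H6.Th.H

theorem ptOK : PtOK img 17199 LS EQS := ptOK_of_chk fun p h1 h2 => by
  rw [← ptU_eq]
  exact (range_join (range_join (range_join (allR_range p0 (by norm_num : 0 + 1664 = 1664)) (allR_range p1 (by norm_num : 1664 + 1664 = 3328))) (range_join (allR_range p2 (by norm_num : 3328 + 1664 = 4992)) (range_join (allR_range p3 (by norm_num : 4992 + 1664 = 6656)) (allR_range p4 (by norm_num : 6656 + 1664 = 8320))))) (range_join (range_join (allR_range p5 (by norm_num : 8320 + 1664 = 9984)) (range_join (allR_range p6 (by norm_num : 9984 + 1664 = 11648)) (allR_range p7 (by norm_num : 11648 + 1664 = 13312)))) (range_join (allR_range p8 (by norm_num : 13312 + 1664 = 14976)) (range_join (allR_range p9 (by norm_num : 14976 + 1664 = 16640)) (allR_range p10 (by norm_num : 16640 + 559 = 17199)))))) p h1 h2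

theorem hrep : repOK 14 264625479259954505385508914462976 LS EQS D Th.H.R = true := by decide +kernel

theorem rep : Good (evR img 17199 14) 264625479259954505385508914462976 ∧ Rels (evR img 17199 14) Th.H.R ∧
    IsAct (MonoidHom.id _) (evR img 17199 14) img 17199 14 := rep_sound ptOK hrep


end Cfsg.H6.Th.H
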